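import Groth.Prelude.Def_CGrpSh2
import Groth.Prelude.Def_AdFn
import Groth.Agent.RedSub.K197.Isog
import Groth.Agent.Sga3.H798.FpqcIso
import Groth.Agent.Sga3.H830.CommAux
import Groth.Agent.Sga3B.KerGrp
import Groth.Agent.TateLoc.K809.SeqExact
import Groth.Agent.Flat2D.LfpComp

/-!
# The `N`-torsion of a torus

* `isIsog_pow_DS` : the `N`-th power on `D(ℤ^r)` is surjective, flat and finite.
* `isIsog_pow` : the `N`-th power on a torus over any base is surjective, flat and finite.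
* `exists_torsion` : `0 → T[N] → T → T → 0` is exact on the big fppf site, and `T[N]` is finite, flat and of
  finite presentation.
-/

set_option autoImplicit false
universe u
open CategoryTheory MonoidalCategory CartesianMonoidalCategory MonObj GrpObj AlgebraicGeometry Limits

namespace Groth.Agent.TateGlob.K798.TorN

open Groth.Agent Groth.Agent.Sga3B Groth.Agent.Sga3B.DSPts K197.Isog

variable {S : Scheme.{u}}

/-- Powers of the identity commute with base change. -/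
lemma map_pow_one {S' : Scheme.{u}} (f : S' ⟶ S) (A : Over S) [GrpObj A] (n : ℕ) :
    (Over.pullback f).map ((𝟙 A : A ⟶ A) ^ n) = (𝟙 (Red.bc f A) : Red.bc f A ⟶ Red.bc f A) ^ n := by
  rw [← CategoryTheory.Functor.map_id]
  exact map_pow (Functor.homMonoidHom (Over.pullback f) (X := A) (M := A)) (𝟙 A) n

lemma pow_conj {T D : Over S} [GrpObj T] [GrpObj D] (e : T ≅ D) [IsMonHom e.hom] (N : ℕ) :
    (𝟙 T) ^ N = e.hom ≫ ((𝟙 D) ^ N) ≫ e.inv := by
  rw [← cancel_mono e.hom, Category.assoc, Category.assoc, e.inv_hom_id, Category.comp_id, MonObj.comp_pow,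
    Category.comp_id, MonObj.pow_comp, Category.id_comp]

lemma pow_DS {M : Type} [AddCommGroup M] (N : ℕ) :
    (𝟙 (Red.DS S M)) ^ N = Red.DSmap S (nsmulAddMonoidHom N : M →+ M) := by
  apply (dsEquiv _ M).symm.injective
  change dsChar _ = dsChar _
  have h0 : dsChar ((𝟙 (Red.DS S M)) ^ N) = dsChar (𝟙 (Red.DS S M)) ^ N := by simp [dsChar]
  rw [h0]
  have h := dsChar_DSmap (nsmulAddMonoidHom N : M →+ M) (𝟙 (Red.DS S M))
  rw [Category.id_comp] at h
  rw [h]
  refine MonoidHom.ext fun x => ?_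
  simp only [MonoidHom.pow_apply, MonoidHom.comp_apply]
  rw [← map_pow]
  rfl

/-- The `N`-th power on `D(ℤ^r)` is surjective, flat and finite. -/
theorem isIsog_pow_DS (r N : ℕ) (hN : 0 < N) : IsIsog ((𝟙 (Red.DS S (Fin r → ℤ))) ^ N).left := by
  rw [pow_DS]
  refine isIsog_DSmap S _ ?_ ?_
  · intro x y hxy
    funext i
    have h1 := congrFun hxy i
    have h2 : (N : ℤ) * x i = N * y i := by simpa using h1
    exact mul_left_cancel₀ (by exact_mod_cast hN.ne') h2
  · intro m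
    exact ⟨N, by exact_mod_cast hN.ne', m, by simp⟩

lemma isIsog_pow_of_split {T : Over S} [GrpObj T] {r : ℕ} (h : Red.IsSplitTorusWith (Fin r → ℤ) T) (N : ℕ)
    (hN : 0 < N) : IsIsog ((𝟙 T : T ⟶ T) ^ N).left := by
  obtain ⟨e⟩ := h
  let e' : T ≅ Red.DS S (Fin r → ℤ) := (Grp.forget _).mapIso e
  have : IsMonHom e'.hom := inferInstanceAs (IsMonHom e.hom.hom.hom)
  rw [pow_conj e' N, Over.comp_left, Over.comp_left]
  exact (IsIsog.of_isIso _).comp ((isIsog_pow_DS r N hN).comp (IsIsog.of_isIso _))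

/-- The `N`-th power on a torus is surjective, flat and finite. -/
theorem isIsog_pow (T : Over S) [GrpObj T] (hT : Red.IsTorus T) (N : ℕ) (hN : 0 < N) :
    IsIsog ((𝟙 T : T ⟶ T) ^ N).left := by
  obtain ⟨S', f, hf, hs, hc, h⟩ := hT
  refine Sga3.H798.FpqcIso.prop_of_fpqc_cover IsIsog f hc _ fun s' => ?_
  obtain ⟨U, hU, r, hr⟩ := h s'
  refine ⟨U, hU, ?_⟩
  rw [map_pow_one]
  exact isIsog_pow_of_split hr N hN

/-- The `N`-th power on a commutative group scheme is a homomorphism. -/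
theorem isMonHom_pow (T : Over S) [GrpObj T] [IsCommMonObj T] (N : ℕ) : IsMonHom ((𝟙 T : T ⟶ T) ^ N) := by
  refine ⟨?_, ?_⟩
  · rw [MonObj.comp_pow, Category.comp_id, MonObj.one_eq_one, _root_.one_pow]
  · have e : ((𝟙 T : T ⟶ T) ^ N ⊗ₘ (𝟙 T : T ⟶ T) ^ N) = lift (fst T T ^ N) (snd T T ^ N) := by
      apply CartesianMonoidalCategory.hom_ext
      · rw [tensorHom_fst, lift_fst, MonObj.comp_pow, Category.comp_id]
      · rw [tensorHom_snd, lift_snd, MonObj.comp_pow, Category.comp_id]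
    rw [e, ← Hom.mul_def, MonObj.comp_pow, Category.comp_id, ← mul_pow]
    exact congrArg (· ^ N) (MonObj.mul_eq_mul T)

theorem exists_torsion (T : Over S) [GrpObj T] [IsCommMonObj T] (hT : Red.IsTorus T) (N : ℕ)
    (hN : 0 < N) :
    ∃ (T' : Over S) (_ : GrpObj T') (_ : IsCommMonObj T') (i : T' ⟶ T) (_ : IsMonHom i)
      (_ : IsMonHom ((𝟙 T : T ⟶ T) ^ N)) (w : i ≫ ((𝟙 T : T ⟶ T) ^ N) = 1),
      IsFinite T'.hom ∧ Flat T'.hom ∧ LocallyOfFinitePresentation T'.hom ∧
      (CGrpSh.seq Scheme.fppfPrecoverage i ((𝟙 T : T ⟶ T) ^ N) w).ShortExact := by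
  have hmon := isMonHom_pow T N
  have hisog := (isIsog_iff _).1 (isIsog_pow T hT N hN)
  obtain ⟨h1, h2, h3⟩ := hisog
  have hsm : Smooth T.hom := TorusAlgClosed.smooth_of_isTorus hT
  have h4 : LocallyOfFinitePresentation ((𝟙 T : T ⟶ T) ^ N).left := by
    have h5 : LocallyOfFinitePresentation (((𝟙 T : T ⟶ T) ^ N).left ≫ T.hom) := by
      rw [Over.w]; infer_instance
    exact Flat2D.LfpComp.lfp_of_comp _ T.hom
  obtain ⟨hG, hi⟩ := KerGrp.exists_grpObj ((𝟙 T : T ⟶ T) ^ N)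
  have hcomm : IsCommMonObj (KerGrp.kerObj ((𝟙 T : T ⟶ T) ^ N)) :=
    Sga3.H830.CommAux.isCommMonObj_of_mono (KerGrp.kerι ((𝟙 T : T ⟶ T) ^ N))
  refine ⟨KerGrp.kerObj ((𝟙 T : T ⟶ T) ^ N), hG, hcomm, KerGrp.kerι _, hi, hmon, KerGrp.kerι_comp _, ?_, ?_, ?_, ?_⟩
  · exact inferInstanceAs (IsFinite (pullback.snd _ _))
  · exact inferInstanceAs (Flat (pullback.snd _ _))
  · exact inferInstanceAs (LocallyOfFinitePresentation (pullback.snd _ _))
  · exact K809.SeqExact.shortExact _ _ _ (KerGrp.isPullback_ker _)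

end Groth.Agent.TateGlob.K798.TorN
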